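import Cfsg.Agent.H403.O1.Size
import Cfsg.Agent.H211.O1.Shape
import Cfsg.Agent.H463.Erd.Main
import Cfsg.Agent.H463.Erd.GForm
import Cfsg.Agent.H301.O1.Primes
import Cfsg.Agent.H797.AD.TooSmall
import Cfsg.Agent.H797.AD.NhOne
import Cfsg.Agent.H704.Branch

/-!
# Half of the degree of the middle (near-)hook is not a degree of the symmetric group (helper403, O1 of S4766)
-/

set_option autoImplicit false

namespace Cfsg.Agent.H403.O1

open Finset Nat Cfsg.Agent.H704 Cfsg.Agent.H211.O1 Cfsg.Agent.H797.AD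

theorem GB_of {x S : ℕ} {v : ℕ → ℕ} (hv : Antitone v) (hs : ∑ j ∈ range x, v j ≤ S) : GB x S (G x v) := by
  have h1 : S ≤ x → G x v * (x + 1 - S) ≤ (x + 1).factorial := by
    intro h
    have h2 := G_bound x v hv _ rfl (hs.trans h)
    rw [Nat.factorial_succ]
    refine le_trans (Nat.mul_le_mul_left _ ?_) h2
    omega
  refine ⟨h1, fun h => ?_, fun h => ?_⟩
  · refine le_trans ?_ (h1 h)
    exact Nat.le_mul_of_pos_right _ (by omega)
  · have := G_le x 7 v hv (hs.trans h)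
    exact this

theorem hookProd_dvd {l : List ℕ} {s : ℕ} (hl : IsPart l s) : hookProd l ∣ s.factorial := by
  obtain ⟨d, -, hd⟩ := exists_deg hl.sorted hl.sum
  exact ⟨d, by rw [← hd, mul_comm]⟩

theorem le_pow_max {r1 r2 : ℕ} {x y : ℕ} (hy : 1 ≤ y) (h : x ≤ y ^ r1) : x ≤ y ^ (max r1 r2) :=
  h.trans (Nat.pow_le_pow_right hy (le_max_left _ _))

/-- the Erdős count applied to modified factorials -/
theorem erdosG {m a b s Y h c c' : ℕ} {v w : ℕ → ℕ} (hm : 10000 ≤ m) (hab : a = b + Y) (hbm : b ≤ m) (hma : m ≤ a)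
    (has : a + s ≤ 3 * m) (h5 : 5 * Y ≤ 2 * m) (hY : 12 * m * s ≤ Y ^ 2) (hs1 : 1 ≤ s) (hsY : s ≤ Y)
    (hv : Antitone v) (hw : Antitone w) (hvs : ∑ j ∈ range a, v j ≤ s) (hws : ∑ j ∈ range b, w j ≤ s)
    (hh : h ∣ s.factorial) (heq : c * (G a v * G b w * h) = (m.factorial) ^ 2 * c') (hc' : 0 < c')
    (hcc : c * c' ≤ (3 * m) ^ 5) : False := by
  obtain ⟨r1, E1, F1, hr1, hF1, hF1', hE1, hE1', e1⟩ := Cfsg.Agent.H463.Erd.G_form hv hvs
  obtain ⟨r2, E2, F2, hr2, hF2, hF2', hE2, hE2', e2⟩ := Cfsg.Agent.H463.Erd.G_form hw hws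
  have hm3 : 1 ≤ 3 * m := by omega
  have hr : (max r1 r2) ^ 2 ≤ s := by
    rcases le_total r1 r2 with h | h
    · rw [max_eq_right h]; exact hr2
    · rw [max_eq_left h]; exact hr1
  have b1 : F1 ≤ (3 * m) ^ (max r1 r2) := le_pow_max hm3 (hF1'.trans (Nat.pow_le_pow_left (by omega) _))
  have b2 : E1 ≤ (3 * m) ^ (max r1 r2) := le_pow_max hm3 (hE1'.trans (Nat.pow_le_pow_left (by omega) _))
  have b3 : F2 ≤ (3 * m) ^ (max r1 r2) := by
    rw [max_comm]
    exact le_pow_max hm3 (hF2'.trans (Nat.pow_le_pow_left (by omega) _))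
  have b4 : E2 ≤ (3 * m) ^ (max r1 r2) := by
    rw [max_comm]
    exact le_pow_max hm3 (hE2'.trans (Nat.pow_le_pow_left (by omega) _))
  refine Cfsg.Agent.H463.Erd.erdos (k := m) (a := a) (b := b) (Y := Y) (r := max r1 r2) (E := c * (E1 * E2)) (h := h)
    (F := c' * (F1 * F2)) hm hab hbm hma h5 ?_ ?_ ?_ ?_ ?_ ?_
  · exact (Nat.mul_le_mul_left _ hr).trans hY
  · refine le_trans ?_ hY
    exact Nat.le_mul_of_pos_right _ hs1
  · unfold G at heq
    calc a.factorial * b.factorial * (c * (E1 * E2) * h)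
        = c * (((a.factorial * E1) * (b.factorial * E2)) * h) := by ring
      _ = c * ((((∏ j ∈ range a, (a - j + v j)) * F1) * ((∏ j ∈ range b, (b - j + w j)) * F2)) * h) := by rw [e1, e2]
      _ = (c * ((∏ j ∈ range a, (a - j + v j)) * (∏ j ∈ range b, (b - j + w j)) * h)) * (F1 * F2) := by ring
      _ = ((m.factorial) ^ 2 * c') * (F1 * F2) := by rw [heq]
      _ = _ := by ring
  · exact Nat.mul_pos hc' (Nat.mul_pos hF1 hF2)
  · intro p hp hph
    exact ((hp.dvd_factorial).1 (hph.trans hh)).trans hsY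
  · calc c * (E1 * E2) * (c' * (F1 * F2)) = (c * c') * ((E1 * E2) * (F1 * F2)) := by ring
      _ ≤ (3 * m) ^ 5 * (((3 * m) ^ (max r1 r2) * (3 * m) ^ (max r1 r2)) *
          ((3 * m) ^ (max r1 r2) * (3 * m) ^ (max r1 r2))) :=
        Nat.mul_le_mul hcc (Nat.mul_le_mul (Nat.mul_le_mul b2 b4) (Nat.mul_le_mul b1 b3))
      _ = (3 * m) ^ (4 * max r1 r2 + 5) := by
        rw [← pow_add, ← pow_add, ← pow_add]
        congr 1
        ring

theorem two_sq_le {y : ℕ} (hy : 2 ≤ y) : 2 * y ^ 2 ≤ y ^ 5 := by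
  calc 2 * y ^ 2 ≤ (y * y ^ 2) * y ^ 2 := by
        apply Nat.mul_le_mul_right
        calc 2 = 2 * 1 := by norm_num
          _ ≤ y * y ^ 2 := Nat.mul_le_mul hy (Nat.one_le_pow _ _ (by omega))
    _ = y ^ 5 := by ring

theorem thirty_le {m k s Y : ℕ} (hmk : m < k) (h : 12 * k * (s + 1) ≤ Y ^ 2) (h5 : 5 * Y ≤ 2 * m) :
    30 * (s + 1) ≤ Y := by
  by_contra hne
  rw [not_le] at hne
  have h1 : Y ^ 2 ≤ Y * (30 * (s + 1)) := by
    rw [sq]
    exact Nat.mul_le_mul_left _ hne.le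
  have h2 : Y * (30 * (s + 1)) ≤ (12 * m) * (s + 1) := by
    calc Y * (30 * (s + 1)) = (30 * Y) * (s + 1) := by ring
      _ ≤ (12 * m) * (s + 1) := Nat.mul_le_mul_right _ (by omega)
  have h3 : (12 * m) * (s + 1) < (12 * k) * (s + 1) := Nat.mul_lt_mul_of_pos_right (by omega) (by omega)
  omega

/-! ### near-hooks -/

/-- near-hooks, `n` odd, `s ≥ 1` -/
theorem hook_odd {m a b s Z : ℕ} {σ : List ℕ} (hm : 271 ≤ m) (hσ : IsPart σ s) (hn : 2 * m + 1 = a + b + 1 + s)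
    (hba : b ≤ a) (hs : 1 ≤ s) (h5Y : 5 * (a - b) ≤ 2 * m) (h5s : 5 * s ≤ 4 * m) (hZ : m < 10000 → Z ^ 2 ≤ 11 * m)
    (hYZ : a - b ≤ Z) (hsZ : s ≤ 2 * Z)
    (heq : (a + b + 1) * G a (fun j => σ.getD j 0) * G b (colLen σ) * hookProd σ =
      2 * ((2 * m + 1) * m.factorial ^ 2)) : False := by
  obtain ⟨Y, hY⟩ : ∃ Y, a = b + Y := ⟨a - b, by omega⟩
  have hYab : a - b = Y := by omega
  rw [hYab] at h5Y hYZ
  have hv := getD_antitone hσ.sorted
  have hw := colLen_antitone σ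
  have hvs : ∑ j ∈ range a, (fun j => σ.getD j 0) j ≤ s := (sum_getD hσ.sorted a).trans hσ.sum.le
  have hws : ∑ j ∈ range b, colLen σ j ≤ s := (sum_colLen hσ.sorted b).trans hσ.sum.le
  have hd := hookProd_dvd hσ
  have hle := Nat.le_of_dvd (Nat.factorial_pos s) hd
  by_cases hreg : (Y ^ 2 ≤ 11 * (m + 1) ∧ s + 1 ≤ b) ∨ (9999 ≤ m ∧ Y ^ 2 < 12 * (m + 1) * (s + 1))
  · have h1 := size_hook (M := m) (a := a) (b := b) (s := s) (Y := Y) (S := s) (by omega) (by omega) hY hs le_rfl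
      (by omega) h5Y (by omega) hreg (GB_of hv hvs) (GB_of hw hws)
    have h2 : 2 * ((2 * m + 1) * m.factorial ^ 2) ≤
        (2 * m + 1) * ((s + 1) * (G a (fun j => σ.getD j 0) * G b (colLen σ) * s.factorial)) := by
      rw [← heq]
      calc (a + b + 1) * G a (fun j => σ.getD j 0) * G b (colLen σ) * hookProd σ
          = (a + b + 1) * (1 * (G a (fun j => σ.getD j 0) * G b (colLen σ) * hookProd σ)) := by ring
        _ ≤ (2 * m + 1) * ((s + 1) * (G a (fun j => σ.getD j 0) * G b (colLen σ) * s.factorial)) := by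
          apply Nat.mul_le_mul (by omega)
          apply Nat.mul_le_mul (by omega)
          exact Nat.mul_le_mul_left _ hle
    have h3 := Nat.mul_lt_mul_of_pos_left h1 (show 0 < 2 * m + 1 by omega)
    have h4 : (2 * m + 1) * (2 * m.factorial ^ 2) = 2 * ((2 * m + 1) * m.factorial ^ 2) := by ring
    omega
  · push Not at hreg
    obtain ⟨hr1, hr2⟩ := hreg
    by_cases hm4 : m < 10000
    · have hZ' := hZ hm4
      have h2 : Y ^ 2 ≤ 11 * (m + 1) := by
        have : Y ^ 2 ≤ Z ^ 2 := Nat.pow_le_pow_left hYZ 2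
        omega
      have h3 := hr1 h2
      have hZ7 : 7 * Z + 2 ≤ 2 * m := by nlinarith
      omega
    · have h2 := hr2 (by omega)
      have hYs : 30 * (s + 1) ≤ Y := thirty_le (m := m) (by omega) h2 (by omega)
      refine erdosG (m := m) (a := a) (b := b) (s := s) (Y := Y) (h := hookProd σ) (c := a + b + 1)
        (c' := 2 * (2 * m + 1)) (by omega) hY (by omega) (by omega) (by omega) h5Y ?_ hs (by omega) hv hw hvs hws hd ?_
        (by omega) ?_
      · nlinarith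
      · calc (a + b + 1) * (G a (fun j => σ.getD j 0) * G b (colLen σ) * hookProd σ)
            = (a + b + 1) * G a (fun j => σ.getD j 0) * G b (colLen σ) * hookProd σ := by ring
          _ = _ := by rw [heq]; ring
      · calc (a + b + 1) * (2 * (2 * m + 1)) ≤ (3 * m) * (2 * (3 * m)) := Nat.mul_le_mul (by omega) (by omega)
          _ = 2 * (3 * m) ^ 2 := by ring
          _ ≤ (3 * m) ^ 5 := two_sq_le (by omega)

/-- near-hooks, `n` even, `s ≥ 2` -/
theorem hook_even {m a b s Z : ℕ} {σ : List ℕ} (hm : 271 ≤ m) (hσ : IsPart σ s) (hn : 2 * m = a + b + 1 + s)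
    (hba : b ≤ a) (hs : 2 ≤ s) (h5Y : 5 * (a - b) + 2 ≤ 2 * m) (h5s : 5 * s ≤ 4 * m) (hZ : m < 10000 → Z ^ 2 ≤ 11 * m)
    (hYZ : a - b ≤ Z) (hsZ : s ≤ 2 * Z)
    (heq : (a + b + 1) * G a (fun j => σ.getD j 0) * G b (colLen σ) * hookProd σ =
      2 * ((2 * m - 1) * m ^ 2 * (m - 2).factorial ^ 2)) : False := by
  obtain ⟨Y, hY⟩ : ∃ Y, a = b + Y := ⟨a - b, by omega⟩
  have hYab : a - b = Y := by omega
  rw [hYab] at h5Y hYZ
  have hv := getD_antitone hσ.sorted
  have hw := colLen_antitone σ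
  have hvs : ∑ j ∈ range a, (fun j => σ.getD j 0) j ≤ s := (sum_getD hσ.sorted a).trans hσ.sum.le
  have hws : ∑ j ∈ range b, colLen σ j ≤ s := (sum_colLen hσ.sorted b).trans hσ.sum.le
  have hd := hookProd_dvd hσ
  have hle := Nat.le_of_dvd (Nat.factorial_pos s) hd
  obtain ⟨k, rfl⟩ : ∃ k, m = k + 2 := ⟨m - 2, by omega⟩
  obtain ⟨t, rfl⟩ : ∃ t, s = t + 1 := ⟨s - 1, by omega⟩
  rw [show k + 2 - 2 = k by omega, show 2 * (k + 2) - 1 = 2 * k + 3 by omega] at heq
  by_cases hreg : (Y ^ 2 ≤ 11 * (k + 1 + 1) ∧ t + 1 ≤ b) ∨ (9999 ≤ k + 1 ∧ Y ^ 2 < 12 * (k + 1 + 1) * (t + 1))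
  · have h1 := size_hook (M := k + 1) (a := a) (b := b) (s := t) (Y := Y) (S := t + 1) (by omega) (by omega) hY (by omega)
      (by omega) le_rfl (by omega) (by omega) hreg (GB_of hv hvs) (GB_of hw hws)
    have h2 : 2 * ((2 * k + 3) * (k + 2) ^ 2 * k.factorial ^ 2) ≤
        (2 * k + 3) * ((t + 1) * (G a (fun j => σ.getD j 0) * G b (colLen σ) * t.factorial)) := by
      rw [← heq]
      calc (a + b + 1) * G a (fun j => σ.getD j 0) * G b (colLen σ) * hookProd σ
          = (a + b + 1) * (G a (fun j => σ.getD j 0) * G b (colLen σ) * hookProd σ) := by ring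
        _ ≤ (2 * k + 3) * (G a (fun j => σ.getD j 0) * G b (colLen σ) * (t + 1).factorial) := by
          apply Nat.mul_le_mul (by omega)
          exact Nat.mul_le_mul_left _ hle
        _ = _ := by rw [Nat.factorial_succ]; ring
    have h3 := Nat.mul_lt_mul_of_pos_left h1 (show 0 < 2 * k + 3 by omega)
    have h4 : (2 * k + 3) * (2 * (k + 1).factorial ^ 2) ≤ 2 * ((2 * k + 3) * (k + 2) ^ 2 * k.factorial ^ 2) := by
      rw [Nat.factorial_succ]
      calc (2 * k + 3) * (2 * ((k + 1) * k.factorial) ^ 2) = (2 * ((2 * k + 3) * k.factorial ^ 2)) * (k + 1) ^ 2 := by ring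
        _ ≤ (2 * ((2 * k + 3) * k.factorial ^ 2)) * (k + 2) ^ 2 :=
          Nat.mul_le_mul_left _ (Nat.pow_le_pow_left (by omega) 2)
        _ = _ := by ring
    omega
  · push Not at hreg
    obtain ⟨hr1, hr2⟩ := hreg
    by_cases hm4 : k + 2 < 10000
    · have hZ' := hZ hm4
      have h2 : Y ^ 2 ≤ 11 * (k + 1 + 1) := by
        have : Y ^ 2 ≤ Z ^ 2 := Nat.pow_le_pow_left hYZ 2
        omega
      have h3 := hr1 h2
      have hZ7 : 7 * Z + 2 ≤ 2 * (k + 1) := by nlinarith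
      omega
    · have h2 := hr2 (by omega)
      have hYs : 30 * (t + 1) ≤ Y := thirty_le (m := k + 1) (by omega) h2 (by omega)
      refine erdosG (m := k + 2) (a := a) (b := b) (s := t + 1) (Y := Y) (h := hookProd σ)
        (c := (k + 1) ^ 2 * (a + b + 1)) (c' := 2 * (2 * k + 3)) (by omega) hY (by omega) (by omega) (by omega) (by omega)
        ?_ (by omega) (by omega) hv hw hvs hws hd ?_ (by omega) ?_
      · nlinarith
      · rw [Nat.factorial_succ, Nat.factorial_succ]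
        calc (k + 1) ^ 2 * (a + b + 1) * (G a (fun j => σ.getD j 0) * G b (colLen σ) * hookProd σ)
            = (k + 1) ^ 2 * ((a + b + 1) * G a (fun j => σ.getD j 0) * G b (colLen σ) * hookProd σ) := by ring
          _ = _ := by rw [heq]; ring
      · calc (k + 1) ^ 2 * (a + b + 1) * (2 * (2 * k + 3)) ≤ (3 * (k + 2)) ^ 2 * (3 * (k + 2)) * (3 * (3 * (k + 2))) := by
              apply Nat.mul_le_mul (Nat.mul_le_mul (Nat.pow_le_pow_left (by omega) 2) (by omega)) (by omega)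
          _ = 3 * (3 * (k + 2)) ^ 4 := by ring
          _ ≤ (3 * (k + 2)) * (3 * (k + 2)) ^ 4 := Nat.mul_le_mul_right _ (by omega)
          _ = _ := by ring

/-! ### two long rows -/

/-- two long rows, `n` odd, `s ≥ 1` -/
theorem row_odd {m A B s Z : ℕ} {ρ : List ℕ} (hm : 271 ≤ m) (hl : IsPart (A :: B :: ρ) (2 * m + 1)) (hρ : IsPart ρ s)
    (hn : 2 * m + 1 = A + B + s) (hs : 1 ≤ s) (h5Y : 5 * (A + 1 - B) ≤ 2 * m) (h5s : 5 * s ≤ 6 * m)
    (hZ : m < 10000 → Z ^ 2 ≤ 11 * m) (hYZ : A + 1 - B + 1 ≤ Z) (hsZ : s + 6 ≤ 3 * Z)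
    (heq : hookProd (A :: B :: ρ) = 2 * ((2 * m + 1) * m.factorial ^ 2)) : False := by
  have hAB : B ≤ A := List.rel_of_pairwise_cons hl.sorted (by simp)
  have hform := rows_form hl
  rw [heq] at hform
  obtain ⟨Y, hY⟩ : ∃ Y, A + 1 = B + Y := ⟨A + 1 - B, by omega⟩
  have hYab : A + 1 - B = Y := by omega
  rw [hYab] at h5Y hYZ hform
  have hY1 : 1 ≤ Y := by omega
  have hv := colLen_antitone ρ
  have hvs : ∑ j ∈ range (A + 1), colLen ρ j ≤ s := (sum_colLen hρ.sorted (A + 1)).trans hρ.sum.le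
  have hws : ∑ j ∈ range B, colLen ρ j ≤ s := (sum_colLen hρ.sorted B).trans hρ.sum.le
  have hd := hookProd_dvd hρ
  have hle := Nat.le_of_dvd (Nat.factorial_pos s) hd
  by_cases hreg : (Y ^ 2 ≤ 11 * (m + 2) ∧ s + 1 ≤ B) ∨ (9998 ≤ m ∧ Y ^ 2 < 12 * (m + 2) * (s + 1))
  · have h1 := size_row (m := m) (a := A + 1) (b := B) (s := s) (Y := Y) (S := s) (by omega) (by omega) hY hs hY1 le_rfl
      (by omega) (by omega) (by omega) hreg (GB_of hv hvs) (GB_of hv hws)
    have h2 : 2 * ((2 * m + 1) * m.factorial ^ 2) * Y ≤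
        (s + 1) * (G (A + 1) (colLen ρ) * G B (colLen ρ) * s.factorial) := by
      rw [hform]
      calc G (A + 1) (colLen ρ) * G B (colLen ρ) * hookProd ρ
          ≤ G (A + 1) (colLen ρ) * G B (colLen ρ) * s.factorial := Nat.mul_le_mul_left _ hle
        _ ≤ _ := Nat.le_mul_of_pos_left _ (by omega)
    omega
  · push Not at hreg
    obtain ⟨hr1, hr2⟩ := hreg
    by_cases hm4 : m < 10000
    · have hZ' := hZ hm4
      have h2 : Y ^ 2 ≤ 11 * (m + 2) := by
        have : Y ^ 2 ≤ Z ^ 2 := Nat.pow_le_pow_left (by omega) 2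
        omega
      have h3 := hr1 h2
      have hZ10 : 10 * Z ≤ 2 * m + 19 := by nlinarith
      omega
    · have h2 := hr2 (by omega)
      have hYs : 30 * (s + 1) ≤ Y := thirty_le (m := m) (by omega) h2 (by omega)
      refine erdosG (m := m) (a := A + 1) (b := B) (s := s) (Y := Y) (h := hookProd ρ) (c := 1)
        (c' := 2 * (2 * m + 1) * Y) (by omega) hY (by omega) (by omega) (by omega) h5Y ?_ hs (by omega) hv hv hvs hws hd
        ?_ (Nat.mul_pos (by omega) hY1) ?_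
      · nlinarith
      · rw [one_mul, ← hform]
        ring
      · calc 1 * (2 * (2 * m + 1) * Y) ≤ 1 * (2 * (3 * m) * (3 * m)) := by
              apply Nat.mul_le_mul_left
              exact Nat.mul_le_mul (by omega) (by omega)
          _ = 2 * (3 * m) ^ 2 := by ring
          _ ≤ (3 * m) ^ 5 := two_sq_le (by omega)

/-- two long rows, `n` even, `s ≥ 2` -/
theorem row_even {m A B s Z : ℕ} {ρ : List ℕ} (hm : 271 ≤ m) (hl : IsPart (A :: B :: ρ) (2 * m)) (hρ : IsPart ρ s)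
    (hn : 2 * m = A + B + s) (hs : 2 ≤ s) (h5Y : 5 * (A + 1 - B) ≤ 2 * m) (h5s : 5 * s ≤ 6 * m)
    (hZ : m < 10000 → Z ^ 2 ≤ 11 * m) (hYZ : A + 1 - B + 1 ≤ Z) (hsZ : s + 6 ≤ 3 * Z)
    (heq : hookProd (A :: B :: ρ) = 2 * ((2 * m - 1) * m ^ 2 * (m - 2).factorial ^ 2)) : False := by
  have hAB : B ≤ A := List.rel_of_pairwise_cons hl.sorted (by simp)
  have hform := rows_form hl
  obtain ⟨k, rfl⟩ : ∃ k, m = k + 2 := ⟨m - 2, by omega⟩
  obtain ⟨t, rfl⟩ : ∃ t, s = t + 1 := ⟨s - 1, by omega⟩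
  rw [show k + 2 - 2 = k by omega, show 2 * (k + 2) - 1 = 2 * k + 3 by omega] at heq
  rw [heq] at hform
  obtain ⟨Y, hY⟩ : ∃ Y, A + 1 = B + Y := ⟨A + 1 - B, by omega⟩
  have hYab : A + 1 - B = Y := by omega
  rw [hYab] at h5Y hYZ hform
  have hY1 : 1 ≤ Y := by omega
  have hv := colLen_antitone ρ
  have hvs : ∑ j ∈ range (A + 1), colLen ρ j ≤ t + 1 := (sum_colLen hρ.sorted (A + 1)).trans hρ.sum.le
  have hws : ∑ j ∈ range B, colLen ρ j ≤ t + 1 := (sum_colLen hρ.sorted B).trans hρ.sum.le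
  have hd := hookProd_dvd hρ
  have hle := Nat.le_of_dvd (Nat.factorial_pos _) hd
  by_cases hreg : (Y ^ 2 ≤ 11 * (k + 1 + 2) ∧ t + 1 ≤ B) ∨ (9998 ≤ k + 1 ∧ Y ^ 2 < 12 * (k + 1 + 2) * (t + 1))
  · have h1 := size_row (m := k + 1) (a := A + 1) (b := B) (s := t) (Y := Y) (S := t + 1) (by omega) (by omega) hY (by omega)
      hY1 (by omega) le_rfl (by omega) (by omega) hreg (GB_of hv hvs) (GB_of hv hws)
    have h2 : 2 * ((2 * k + 3) * (k + 2) ^ 2 * k.factorial ^ 2) * Y ≤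
        (t + 1) * (G (A + 1) (colLen ρ) * G B (colLen ρ) * t.factorial) := by
      rw [hform]
      calc G (A + 1) (colLen ρ) * G B (colLen ρ) * hookProd ρ
          ≤ G (A + 1) (colLen ρ) * G B (colLen ρ) * (t + 1).factorial := Nat.mul_le_mul_left _ hle
        _ = _ := by rw [Nat.factorial_succ]; ring
    have h4 : 2 * ((2 * (k + 1) + 1) * (k + 1).factorial ^ 2) * Y ≤ 2 * ((2 * k + 3) * (k + 2) ^ 2 * k.factorial ^ 2) * Y := by
      rw [Nat.factorial_succ]
      calc 2 * ((2 * (k + 1) + 1) * ((k + 1) * k.factorial) ^ 2) * Y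
          = (2 * ((2 * k + 3) * k.factorial ^ 2) * Y) * (k + 1) ^ 2 := by ring
        _ ≤ (2 * ((2 * k + 3) * k.factorial ^ 2) * Y) * (k + 2) ^ 2 :=
          Nat.mul_le_mul_left _ (Nat.pow_le_pow_left (by omega) 2)
        _ = _ := by ring
    omega
  · push Not at hreg
    obtain ⟨hr1, hr2⟩ := hreg
    by_cases hm4 : k + 2 < 10000
    · have hZ' := hZ hm4
      have h2 : Y ^ 2 ≤ 11 * (k + 1 + 2) := by
        have : Y ^ 2 ≤ Z ^ 2 := Nat.pow_le_pow_left (by omega) 2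
        omega
      have h3 := hr1 h2
      have hZ10 : 10 * Z ≤ 2 * (k + 2) + 19 := by nlinarith
      omega
    · have h2 := hr2 (by omega)
      have hYs : 30 * (t + 1) ≤ Y := thirty_le (m := k + 2) (by omega) h2 (by omega)
      refine erdosG (m := k + 2) (a := A + 1) (b := B) (s := t + 1) (Y := Y) (h := hookProd ρ) (c := (k + 1) ^ 2)
        (c' := 2 * (2 * k + 3) * Y) (by omega) hY (by omega) (by omega) (by omega) (by omega) ?_ (by omega) (by omega)
        hv hv hvs hws hd ?_ (Nat.mul_pos (by omega) hY1) ?_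
      · nlinarith
      · rw [← hform, Nat.factorial_succ, Nat.factorial_succ]
        ring
      · calc (k + 1) ^ 2 * (2 * (2 * k + 3) * Y) ≤ (3 * (k + 2)) ^ 2 * (3 * (3 * (k + 2)) * (3 * (k + 2))) := by
              apply Nat.mul_le_mul (Nat.pow_le_pow_left (by omega) 2)
              exact Nat.mul_le_mul (by omega) (by omega)
          _ = 3 * (3 * (k + 2)) ^ 4 := by ring
          _ ≤ (3 * (k + 2)) * (3 * (k + 2)) ^ 4 := Nat.mul_le_mul_right _ (by omega)
          _ = _ := by ring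

end Cfsg.Agent.H403.O1
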