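import Mathlib

/-!
# A bound for modified factorials (helper403, obstacle O1 of S4766)

`G x v = ∏ j ∈ range x, (x - j + v j)`; if `v` is antitone and `∑_{j < x} v j ≤ q x`, then `G x v * q! ≤ (x + q)!`.
-/

set_option autoImplicit false

namespace Cfsg.Agent.H403.O1

open Finset Nat

theorem prod_range_add_sub (x q : ℕ) : (∏ j ∈ range x, (x - j + q)) * q.factorial = (x + q).factorial := by
  induction x with
  | zero => simp
  | succ x ih =>
    rw [Finset.prod_range_succ']
    have h1 : ∏ k ∈ range x, (x + 1 - (k + 1) + q) = ∏ j ∈ range x, (x - j + q) :=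
      Finset.prod_congr rfl fun j _ => by rw [Nat.add_sub_add_right]
    rw [h1, mul_right_comm, ih, Nat.sub_zero, show x + 1 + q = (x + q) + 1 by ring, Nat.factorial_succ]
    ring

/-- **The bound.** -/
theorem G_le (x q : ℕ) (v : ℕ → ℕ) (hv : Antitone v) (hs : ∑ j ∈ range x, v j ≤ q * x) :
    (∏ j ∈ range x, (x - j + v j)) * q.factorial ≤ (x + q).factorial := by
  rcases Nat.eq_zero_or_pos x with rfl | hx
  · simp
  rw [← prod_range_add_sub x q]
  refine Nat.mul_le_mul_right _ ?_
  -- real logarithm
  have hpos : ∀ j ∈ range x, (0 : ℝ) < (x : ℝ) - j + q := by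
    intro j hj
    rw [Finset.mem_range] at hj
    have : (j : ℝ) < x := by exact_mod_cast hj
    have h0 : (0 : ℝ) ≤ q := by positivity
    linarith
  have key : ∏ j ∈ range x, (((x : ℝ) - j + v j) / ((x : ℝ) - j + q)) ≤ 1 := by
    have h1 : ∏ j ∈ range x, (((x : ℝ) - j + v j) / ((x : ℝ) - j + q)) ≤
        ∏ j ∈ range x, Real.exp (((v j : ℝ) - q) * (1 / ((x : ℝ) - j + q))) := by
      apply Finset.prod_le_prod
      · intro j hj
        have h2 := hpos j hj
        rw [Finset.mem_range] at hj
        have h3 : (j : ℝ) < x := by exact_mod_cast hj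
        have h4 : (0 : ℝ) ≤ v j := by positivity
        apply div_nonneg _ h2.le
        linarith
      · intro j hj
        have h2 := hpos j hj
        have h3 : ((x : ℝ) - j + v j) / ((x : ℝ) - j + q) = ((v j : ℝ) - q) * (1 / ((x : ℝ) - j + q)) + 1 := by
          field_simp
          ring
        rw [h3]
        exact Real.add_one_le_exp _
    refine h1.trans ?_
    rw [← Real.exp_sum]
    rw [Real.exp_le_one_iff]
    -- Chebyshev
    have h5 : AntivaryOn (fun j : ℕ => ((v j : ℝ) - q)) (fun j : ℕ => (1 / ((x : ℝ) - j + q))) (range x : Finset ℕ) := by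
      apply AntitoneOn.antivaryOn (s := ((range x : Finset ℕ) : Set ℕ))
      · intro i _ j _ hij
        have : (v j : ℝ) ≤ v i := by exact_mod_cast hv hij
        simp only
        linarith
      · intro i hi j hj hij
        have h6 := hpos i (by simpa using hi)
        have h7 := hpos j (by simpa using hj)
        simp only
        apply one_div_le_one_div_of_le h7
        have : (i : ℝ) ≤ j := by exact_mod_cast hij
        linarith
    have h8 := h5.card_mul_sum_le_sum_mul_sum
    rw [Finset.card_range] at h8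
    have h9 : (∑ j ∈ range x, ((v j : ℝ) - q)) ≤ 0 := by
      rw [Finset.sum_sub_distrib, Finset.sum_const, Finset.card_range, nsmul_eq_mul]
      have : ((∑ j ∈ range x, v j : ℕ) : ℝ) ≤ ((q * x : ℕ) : ℝ) := by exact_mod_cast hs
      push_cast at this
      linarith
    have h10 : 0 ≤ ∑ j ∈ range x, (1 / ((x : ℝ) - j + q)) :=
      Finset.sum_nonneg fun j hj => (one_div_pos.2 (hpos j hj)).le
    have h11 : (x : ℝ) * ∑ j ∈ range x, ((v j : ℝ) - q) * (1 / ((x : ℝ) - j + q)) ≤ 0 :=
      h8.trans (mul_nonpos_of_nonpos_of_nonneg h9 h10)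
    have hx' : (0 : ℝ) < x := by exact_mod_cast hx
    by_contra hne
    push Not at hne
    have := mul_pos hx' hne
    linarith
  rw [Finset.prod_div_distrib] at key
  have h12 : (0 : ℝ) < ∏ j ∈ range x, ((x : ℝ) - j + q) := Finset.prod_pos hpos
  rw [div_le_one h12] at key
  have cst : ∀ w : ℕ → ℕ, ((∏ j ∈ range x, (x - j + w j) : ℕ) : ℝ) = ∏ j ∈ range x, ((x : ℝ) - j + w j) := by
    intro w
    push_cast
    apply Finset.prod_congr rfl
    intro j hj
    rw [Finset.mem_range] at hj
    rw [Nat.cast_sub hj.le]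
  have h13 := cst v
  have h14 := cst (fun _ => q)
  have h15 : ((∏ j ∈ range x, (x - j + v j) : ℕ) : ℝ) ≤ ((∏ j ∈ range x, (x - j + q) : ℕ) : ℝ) := by
    rw [h13, h14]
    exact key
  exact_mod_cast h15

/-- the bounds used for `g = G x v`, `S = ∑_{j < x} v j` -/
structure GB (x S g : ℕ) : Prop where
  one : S ≤ x → g * (x + 1 - S) ≤ (x + 1).factorial
  two : S ≤ x → g ≤ (x + 1).factorial
  seven : S ≤ 7 * x → g * 5040 ≤ (x + 7).factorial

end Cfsg.Agent.H403.O1
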