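import Cfsg.Agent.H403.O1.NoHalf
import Cfsg.Agent.H797.AD.Lam
import Cfsg.Agent.H797.AD.Small
import Cfsg.Agent.H117.O1.Bridge

/-!
# The alternating and symmetric groups of degree `n ≥ 5` have different sets of character degrees (O1 of S4766)
-/

set_option autoImplicit false

namespace Cfsg.Agent.H403.O1

open Cfsg.Agent.H704 Cfsg.Agent.H797.AD

/-- for every `n ≥ 5` half of the degree of some self-conjugate partition of `n` is not a degree of `S_n` -/
theorem notHalf (n : ℕ) (hn : 5 ≤ n) : NotHalf n := by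
  rcases Nat.lt_or_ge 544 n with h | h
  · rcases Nat.even_or_odd' n with ⟨m, rfl | rfl⟩
    · obtain ⟨l, h1, h2, h3⟩ := lam_even (m := m) (by omega)
      refine ⟨l, h1, h2, fun l' hl' => ?_⟩
      rw [h3]
      exact no_even (by omega) hl'
    · obtain ⟨l, h1, h2, h3⟩ := lam_odd (m := m) (by omega)
      refine ⟨l, h1, h2, fun l' hl' => ?_⟩
      rw [h3]
      exact no_odd (by omega) hl'
  · exact small n hn h

theorem degrees_ne (n : ℕ) (hn : 5 ≤ n) :
    charDegrees (Equiv.Perm (Fin n)) ≠ charDegrees (alternatingGroup (Fin n)) :=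
  Cfsg.Agent.H117.O1.bridge (by omega) (notHalf n hn)

end Cfsg.Agent.H403.O1
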