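import Cfsg.Agent.H403.O1.Assembly

/-!
# Twice the hook product of the middle (near-)hook is not a hook product (helper403, O1 of S4766)
-/

set_option autoImplicit false

namespace Cfsg.Agent.H403.O1

open Finset Nat Cfsg.Agent.H704 Cfsg.Agent.H211.O1 Cfsg.Agent.H797.AD Cfsg.Agent.H301.O1

theorem not_dvd_of_between {u c : ℕ} (h1 : u < c) (h2 : c < 2 * u) : ¬ u ∣ c := by
  rintro ⟨d, rfl⟩
  have h3 : 1 < d := by
    by_contra hne
    have : d ≤ 1 := by omega
    have := Nat.mul_le_mul_left u this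
    omega
  have := Nat.mul_le_mul_left u (show 2 ≤ d from h3)
  omega

theorem no_odd {m : ℕ} (hm : 271 ≤ m) {l : List ℕ} (hl : IsPart l (2 * m + 1)) :
    hookProd l ≠ 2 * ((2 * m + 1) * m.factorial ^ 2) := by
  intro heq
  obtain ⟨p1, p2, p3, hp1, hp2, hp3, h32, h21, h1, h5, hZ, U, hU, hUs⟩ := primes_all hm
  have hsq : ∀ p : ℕ, p.Prime → p ≤ m → p ^ 2 ∣ hookProd l := by
    intro p hp hpm
    rw [heq]
    exact ((pow_dvd_pow_of_dvd ((hp.dvd_factorial).2 hpm) 2).mul_left _).mul_left _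
  have hlt : ∀ p : ℕ, 4 * m + 3 ≤ 5 * p → 2 * m + 1 < p ^ 2 := by
    intro p hp
    nlinarith
  have hUn : ∀ u ∈ U, u.Prime ∧ ¬ u ∣ hookProd l := by
    intro u hu
    obtain ⟨hup, hmu, hu4⟩ := hU u hu
    refine ⟨hup, fun hd => ?_⟩
    rw [heq] at hd
    rcases hup.dvd_mul.1 hd with h | h
    · have := Nat.le_of_dvd (by norm_num) h
      omega
    rcases hup.dvd_mul.1 h with h | h
    · exact not_dvd_of_between (by omega) (by omega) h
    · have := (hup.dvd_factorial).1 (hup.dvd_of_dvd_pow h)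
      omega
  obtain ⟨l', hl', hhp, hcase⟩ := shape hl h21 h32 (by omega) (by omega)
    (two_of_sq_dvd hl hp1 (by omega) (hlt p1 (by omega)) (hsq p1 hp1 (by omega)))
    (two_of_sq_dvd hl hp2 (by omega) (hlt p2 (by omega)) (hsq p2 hp2 (by omega)))
    (two_of_sq_dvd hl hp3 (by omega) (hlt p3 (by omega)) (hsq p3 hp3 (by omega))) U hUn (hUs _ (Or.inr rfl))
  rw [heq] at hhp
  obtain ⟨Z, hZdef⟩ : ∃ Z, Z = 2 * m + 2 - p2 - p3 := ⟨_, rfl⟩
  rw [← hZdef] at hZ
  rcases hcase with ⟨a, b, s, σ, hσ, hn, hba, hab, hs, hform⟩ | ⟨A, B, s, ρ, rfl, hρ, hn, hAB, hs⟩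
  · rw [hform] at hhp
    rcases Nat.eq_zero_or_pos s with rfl | hs1
    · exact nh0_odd (by omega) hσ (by omega) hba hhp
    · exact hook_odd hm hσ hn hba hs1 (by omega) (by omega) hZ (by omega) (by omega) hhp
  · rcases Nat.eq_zero_or_pos s with rfl | hs1
    · exact rows0_odd (by omega) hl' hρ hhp
    · exact row_odd hm hl' hρ hn hs1 (by omega) (by omega) hZ (by omega) (by omega) hhp

theorem no_even {m : ℕ} (hm : 271 ≤ m) {l : List ℕ} (hl : IsPart l (2 * m)) :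
    hookProd l ≠ 2 * ((2 * m - 1) * m ^ 2 * (m - 2).factorial ^ 2) := by
  intro heq
  obtain ⟨p1, p2, p3, hp1, hp2, hp3, h32, h21, h1, h5, hZ, U, hU, hUs⟩ := primes_all hm
  have hsq : ∀ p : ℕ, p.Prime → p ≤ m - 2 → p ^ 2 ∣ hookProd l := by
    intro p hp hpm
    rw [heq]
    exact ((pow_dvd_pow_of_dvd ((hp.dvd_factorial).2 hpm) 2).mul_left _).mul_left _
  have hlt : ∀ p : ℕ, 4 * m + 3 ≤ 5 * p → 2 * m < p ^ 2 := by
    intro p hp
    nlinarith
  have hUn : ∀ u ∈ U, u.Prime ∧ ¬ u ∣ hookProd l := by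
    intro u hu
    obtain ⟨hup, hmu, hu4⟩ := hU u hu
    refine ⟨hup, fun hd => ?_⟩
    rw [heq] at hd
    rcases hup.dvd_mul.1 hd with h | h
    · have := Nat.le_of_dvd (by norm_num) h
      omega
    rcases hup.dvd_mul.1 h with h | h
    · rcases hup.dvd_mul.1 h with h | h
      · exact not_dvd_of_between (by omega) (by omega) h
      · have := Nat.le_of_dvd (by omega) (hup.dvd_of_dvd_pow h)
        omega
    · have := (hup.dvd_factorial).1 (hup.dvd_of_dvd_pow h)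
      omega
  obtain ⟨l', hl', hhp, hcase⟩ := shape hl h21 h32 (by omega) (by omega)
    (two_of_sq_dvd hl hp1 (by omega) (hlt p1 (by omega)) (hsq p1 hp1 (by omega)))
    (two_of_sq_dvd hl hp2 (by omega) (hlt p2 (by omega)) (hsq p2 hp2 (by omega)))
    (two_of_sq_dvd hl hp3 (by omega) (hlt p3 (by omega)) (hsq p3 hp3 (by omega))) U hUn (hUs _ (Or.inl rfl))
  rw [heq] at hhp
  obtain ⟨Z, hZdef⟩ : ∃ Z, Z = 2 * m + 2 - p2 - p3 := ⟨_, rfl⟩
  rw [← hZdef] at hZ
  rcases hcase with ⟨a, b, s, σ, hσ, hn, hba, hab, hs, hform⟩ | ⟨A, B, s, ρ, rfl, hρ, hn, hAB, hs⟩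
  · rw [hform] at hhp
    rcases Nat.lt_or_ge 1 s with hs2 | hs2
    · exact hook_even hm hσ hn hba hs2 (by omega) (by omega) hZ (by omega) (by omega) hhp
    · interval_cases s
      · exact nh0_even (by omega) hσ (by omega) hba hhp
      · exact nh1_even (fun m h1 h2 => prime_close h1 h2)
          (fun k a b Y E h F h1 h2 h3 h4 h5 h6 h7 h8 h9 h10 => Cfsg.Agent.H463.Erd.erdos' h1 h2 h3 h4 h5 h6 h7 h8 h9 h10)
          hm hσ (by omega) hba (by omega) hhp
  · rcases Nat.lt_or_ge 1 s with hs2 | hs2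
    · exact row_even hm hl' hρ hn hs2 (by omega) (by omega) hZ (by omega) (by omega) hhp
    · interval_cases s
      · exact rows0_even (by omega) hl' hρ hhp
      · exact rows1_even (by omega) hl' hρ hhp

end Cfsg.Agent.H403.O1
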