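import Cfsg.Agent.H403.O1.SizeBase

/-!
# Size inequality, high case `a ≥ M` (helper403, obstacle O1 of S4766)
-/

set_option autoImplicit false

namespace Cfsg.Agent.H403.O1

open Finset Nat

theorem exp_le_of_pow (p q : ℕ) {c : ℝ} (hq : q ≠ 0) (hc : 0 ≤ c) (h : (2.7182818286 : ℝ) ^ p ≤ c ^ q) :
    Real.exp ((p : ℝ) / q) ≤ c := by
  have h1 : Real.exp ((p : ℝ) / q) ^ q = Real.exp 1 ^ p := by
    rw [← Real.exp_nat_mul, ← Real.exp_nat_mul, mul_one]
    congr 1
    have : (q : ℝ) ≠ 0 := by exact_mod_cast hq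
    field_simp
  have h2 : Real.exp ((p : ℝ) / q) ^ q ≤ c ^ q := by
    rw [h1]
    refine le_trans ?_ h
    exact pow_le_pow_left₀ (Real.exp_pos 1).le Real.exp_one_lt_d9.le p
  exact le_of_pow_le_pow_left₀ hq hc h2

theorem exp_375 : Real.exp (3.75 : ℝ) ≤ 43 := by
  have := exp_le_of_pow 15 4 (c := 43) (by norm_num) (by norm_num) (by norm_num)
  norm_num at this ⊢
  exact this

theorem exp_32 : Real.exp (3.2 : ℝ) ≤ 24.6 := by
  have := exp_le_of_pow 16 5 (c := 24.6) (by norm_num) (by norm_num) (by norm_num)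
  norm_num at this ⊢
  exact this

theorem exp_62 : Real.exp (6.2 : ℝ) ≤ 538 := by
  have := exp_le_of_pow 31 5 (c := 538) (by norm_num) (by norm_num) (by norm_num)
  norm_num at this ⊢
  exact this

theorem exp_276 : Real.exp (2.76 : ℝ) ≤ 16 := by
  have := exp_le_of_pow 69 25 (c := 16) (by norm_num) (by norm_num) (by norm_num)
  norm_num at this ⊢
  exact this

theorem exp_4 : Real.exp (4 : ℝ) ≤ 55 := by
  have := exp_le_of_pow 4 1 (c := 55) (by norm_num) (by norm_num) (by norm_num)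
  norm_num at this ⊢
  exact this

theorem exp_1 : Real.exp (1 : ℝ) ≤ 2.72 := by
  have := Real.exp_one_lt_d9
  linarith

theorem choose_mono_half {N k : ℕ} : ∀ s : ℕ, k ≤ s → 2 * s ≤ N → N.choose k ≤ N.choose s := by
  intro s hs
  induction s, hs using Nat.le_induction with
  | base => intro _; exact le_rfl
  | succ s hs ih =>
    intro h
    exact (ih (by omega)).trans (Nat.choose_le_succ_of_lt_half_left (by omega))

theorem pS {M N : ℕ} (hM : 9999 ≤ M) (hN : 4 * M ≤ 5 * N) : ∀ s : ℕ, 2 ≤ s → 60 * s ≤ M →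
    (s + 1) * 43 ^ (s + 1) * M ≤ 170 * N.choose s := by
  intro s hs
  induction s, hs using Nat.le_induction with
  | base =>
    intro _
    rw [Nat.choose_two_right]
    have h1 : 2 ∣ N * (N - 1) := (Nat.even_mul_pred_self N).two_dvd
    obtain ⟨c, hc⟩ := h1
    rw [hc, Nat.mul_div_cancel_left _ (by norm_num)]
    obtain ⟨y, rfl⟩ : ∃ y, N = y + 1 := ⟨N - 1, by omega⟩
    rw [Nat.add_sub_cancel] at hc
    have hy : 7998 ≤ y := by omega
    have h2 : (y + 1) * 7998 ≤ (y + 1) * y := Nat.mul_le_mul_left _ hy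
    norm_num
    omega
  | succ s hs ih =>
    intro h
    have ih' := ih (by omega)
    have h1 := Nat.choose_succ_right_eq N s
    have h2 : (s + 1) * ((s + 1 + 1) * 43 ^ (s + 1 + 1) * M) ≤ (s + 1) * (170 * N.choose (s + 1)) := by
      calc (s + 1) * ((s + 1 + 1) * 43 ^ (s + 1 + 1) * M) = (43 * (s + 2)) * ((s + 1) * 43 ^ (s + 1) * M) := by ring
        _ ≤ (43 * (s + 2)) * (170 * N.choose s) := Nat.mul_le_mul_left _ ih'
        _ ≤ (N - s) * (170 * N.choose s) := Nat.mul_le_mul_right _ (by omega)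
        _ = 170 * (N.choose s * (N - s)) := by ring
        _ = 170 * (N.choose (s + 1) * (s + 1)) := by rw [h1]
        _ = (s + 1) * (170 * N.choose (s + 1)) := by ring
    exact Nat.le_of_mul_le_mul_left h2 (by omega)

/-- the case `s = 1` -/
theorem high_one {M a b x S g1 g2 : ℕ} (hM : 270 ≤ M) (ha : a = M + x) (hb : b + x + 1 = M)
    (h5Y : 5 * (2 * x + 1) ≤ 2 * M) (hS : S ≤ 2) (hreg : (2 * x + 1) ^ 2 ≤ 11 * (M + 1) ∨ (9999 ≤ M ∧
      (2 * x + 1) ^ 2 < 24 * (M + 1))) (hg1 : GB a S g1) (hg2 : GB b S g2) :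
    M ^ 2 * ((1 + 1) * (g1 * g2 * (1 : ℕ).factorial)) < 2 * (2 * M - 1) * (2 * x + 1) * (M.factorial) ^ 2 := by
  have hMr : (270 : ℝ) ≤ M := by exact_mod_cast hM
  have hx5 : 5 * (2 * (x : ℝ) + 1) ≤ 2 * M := by exact_mod_cast h5Y
  have hbr : (b : ℝ) + x + 1 = M := by exact_mod_cast hb
  have har : (a : ℝ) = M + x := by exact_mod_cast ha
  have hx0 : (0 : ℝ) ≤ x := by positivity
  have hSr : (S : ℝ) ≤ 2 := by exact_mod_cast hS
  have hS0 : (0 : ℝ) ≤ S := by positivity
  refine high_of (c := 1.02) (s := 1) (by omega) ha hb (by norm_num) ?_ ?_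
  · have h1 := hg1.le (c := 1.0095) (by omega) (by rw [har]; linarith)
    have h2 := hg2.le (c := 1.0095) (by omega) (by linarith)
    have h3 : (g1 : ℝ) * g2 ≤ (1.0095 * (a.factorial : ℝ)) * (1.0095 * (b.factorial : ℝ)) :=
      mul_le_mul h1 h2 (by positivity) (by positivity)
    have h4 : (0 : ℝ) ≤ (a.factorial : ℝ) * (b.factorial : ℝ) := by positivity
    nlinarith
  · have hC : ((b + 1).choose 1 : ℝ) = (M : ℝ) - x := by
      rw [Nat.choose_one_right]
      push_cast
      linarith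
    rw [hC]
    have hY : (((2 * x + 1 : ℕ) : ℝ)) = 2 * x + 1 := by push_cast; ring
    rw [hY]
    have hu : (0 : ℝ) < (M : ℝ) - x + 1 := by linarith
    have key : Real.exp ((x : ℝ) ^ 2 / ((M : ℝ) - x + 1)) ≤ 1.5 * (2 * x + 1) := by
      rcases Nat.eq_zero_or_pos x with rfl | hx1
      · simp only [Nat.cast_zero]
        norm_num
      have hx1r : (1 : ℝ) ≤ x := by exact_mod_cast hx1
      rcases le_or_gt ((x : ℝ) ^ 2) ((M : ℝ) - x + 1) with h | h
      · have h1 : (x : ℝ) ^ 2 / ((M : ℝ) - x + 1) ≤ 1 := (div_le_one hu).2 h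
        have h2 := Real.exp_le_exp.2 h1
        have h3 := exp_1
        linarith
      · rcases hreg with h2 | ⟨hM9, h2⟩
        · have h2r : (2 * (x : ℝ) + 1) ^ 2 ≤ 11 * ((M : ℝ) + 1) := by exact_mod_cast h2
          have hx15 : (15 : ℝ) ≤ x := by
            by_contra hne
            push Not at hne
            have : x ≤ 14 := by
              have : (x : ℝ) < (15 : ℕ) := by exact_mod_cast hne
              have := Nat.cast_lt.1 this
              omega
            have h14 : (x : ℝ) ≤ 14 := by exact_mod_cast this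
            nlinarith
          have h3 : (x : ℝ) ^ 2 / ((M : ℝ) - x + 1) ≤ 3.2 := by
            rw [div_le_iff₀ hu]
            nlinarith
          have h4 := Real.exp_le_exp.2 h3
          have h5 := exp_32
          linarith
        · have h2r : (2 * (x : ℝ) + 1) ^ 2 < 24 * ((M : ℝ) + 1) := by exact_mod_cast h2
          have hM9r : (9999 : ℝ) ≤ M := by exact_mod_cast hM9
          rcases le_or_gt ((x : ℝ) ^ 2) (4 * ((M : ℝ) - x + 1)) with h6 | h6
          · have h3 : (x : ℝ) ^ 2 / ((M : ℝ) - x + 1) ≤ 4 := by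
              rw [div_le_iff₀ hu]
              exact h6
            have h4 := Real.exp_le_exp.2 h3
            have h5 := exp_4
            have hx18 : (18 : ℝ) ≤ x := by nlinarith
            linarith
          · have h3 : (x : ℝ) ^ 2 / ((M : ℝ) - x + 1) ≤ 6.2 := by
              rw [div_le_iff₀ hu]
              nlinarith
            have h4 := Real.exp_le_exp.2 h3
            have h5 := exp_62
            have hx179 : (179 : ℝ) ≤ x := by nlinarith
            linarith
    have hpos : (0 : ℝ) ≤ (M : ℝ) ^ 2 := by positivity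
    push_cast
    have h7 : (M : ℝ) ^ 2 * (1 + 1) * 1.02 * Real.exp ((x : ℝ) ^ 2 / ((M : ℝ) - x + 1)) ≤
        (M : ℝ) ^ 2 * (1 + 1) * 1.02 * (1.5 * (2 * x + 1)) := mul_le_mul_of_nonneg_left key (by positivity)
    refine h7.trans_lt ?_
    have h8 : (M : ℝ) ^ 2 * (1 + 1) * 1.02 * 1.5 < 2 * (2 * (M : ℝ) - 1) * ((M : ℝ) - x) := by nlinarith
    have h9 := mul_lt_mul_of_pos_right h8 (show (0 : ℝ) < 2 * x + 1 by linarith)
    linarith

end Cfsg.Agent.H403.O1
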