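import Cfsg.Agent.H403.O1.SizeHigh

/-!
# Size inequality, high case `a ≥ M`, `s ≥ 2` (helper403, obstacle O1 of S4766)
-/

set_option autoImplicit false

namespace Cfsg.Agent.H403.O1

open Finset Nat

theorem GB.mul_le {a b S g1 g2 : ℕ} (hg1 : GB a S g1) (hg2 : GB b S g2) (hba : b ≤ a) (hS : S ≤ b) {c : ℝ}
    (hc1 : 1 ≤ c) (hc : (b : ℝ) + 1 ≤ c * ((b : ℝ) + 1 - S)) :
    (g1 : ℝ) * g2 ≤ (c * c) * ((a.factorial : ℝ) * (b.factorial : ℝ)) := by
  have hbar : (b : ℝ) ≤ a := by exact_mod_cast hba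
  have h1 := hg1.le (c := c) (by omega) (by nlinarith)
  have h2 := hg2.le (c := c) (by omega) hc
  have h3 : (g1 : ℝ) * g2 ≤ (c * (a.factorial : ℝ)) * (c * (b.factorial : ℝ)) :=
    mul_le_mul h1 h2 (by positivity) (by positivity)
  linarith

set_option maxHeartbeats 2000000 in
theorem high_two {M a b x s S g1 g2 : ℕ} (hM : 270 ≤ M) (ha : a = M + x) (hb : b + x + s = M) (hs : 2 ≤ s)
    (h5Y : 5 * (2 * x + s) ≤ 2 * M) (hS : S ≤ s + 1) (hreg : (2 * x + s) ^ 2 ≤ 11 * (M + 1) ∨ (9999 ≤ M ∧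
      (2 * x + s) ^ 2 < 12 * (M + 1) * (s + 1))) (hg1 : GB a S g1) (hg2 : GB b S g2) :
    M ^ 2 * ((s + 1) * (g1 * g2 * s.factorial)) < 2 * (2 * M - 1) * (2 * x + s) * (M.factorial) ^ 2 := by
  have hMr : (270 : ℝ) ≤ M := by exact_mod_cast hM
  have hx5 : 5 * (2 * (x : ℝ) + s) ≤ 2 * M := by exact_mod_cast h5Y
  have hbr : (b : ℝ) + x + s = M := by exact_mod_cast hb
  have hx0 : (0 : ℝ) ≤ x := by positivity
  have hs2 : (2 : ℝ) ≤ s := by exact_mod_cast hs
  have hSr : (S : ℝ) ≤ s + 1 := by exact_mod_cast hS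
  have hu : (0 : ℝ) < (M : ℝ) - x + 1 := by linarith
  have hba : b ≤ a := by omega
  have hNr : ((b + s : ℕ) : ℝ) = (M : ℝ) - x := by push_cast; linarith
  have h2s : 2 * s ≤ b + s := by omega
  have hYr : (((2 * x + s : ℕ) : ℝ)) = 2 * x + s := by push_cast; ring
  -- the binomial coefficient
  have hC : ((s : ℝ) + 1) * (((M : ℝ) - x) * ((M : ℝ) - x - 1)) ≤ 6 * ((b + s).choose s : ℝ) := by
    have h1 := six_choose (N := b + s) s hs h2s
    have h2 : (((s + 1) * ((b + s) * (b + s - 1)) : ℕ) : ℝ) ≤ ((6 * (b + s).choose s : ℕ) : ℝ) := by exact_mod_cast h1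
    push_cast [Nat.cast_sub (show 1 ≤ b + s by omega)] at h2
    rw [show (b : ℝ) + s = (M : ℝ) - x by linarith] at h2
    exact h2
  have hCpos : (0 : ℝ) < ((b + s).choose s : ℝ) := by
    have : 0 < (b + s).choose s := Nat.choose_pos (by omega)
    exact_mod_cast this
  -- polynomial estimate
  have poly : ∀ c : ℝ, 0 ≤ c → c ≤ 99 → (M : ℝ) ^ 2 * ((s : ℝ) + 1) * c < 2 * (2 * (M : ℝ) - 1) * (2 * x + s) *
      ((b + s).choose s : ℝ) := by
    intro c hc0 hc
    have h1 : (0.8 : ℝ) * M ≤ (M : ℝ) - x := by linarith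
    have h2 : (0.636 : ℝ) * (M : ℝ) ^ 2 ≤ ((M : ℝ) - x) * ((M : ℝ) - x - 1) := by nlinarith
    have h3 : (0.106 : ℝ) * (M : ℝ) ^ 2 * ((s : ℝ) + 1) ≤ ((b + s).choose s : ℝ) := by
      have := mul_le_mul_of_nonneg_left h2 (show (0 : ℝ) ≤ (s : ℝ) + 1 by linarith)
      linarith
    have h4 : (2 * (2 * (M : ℝ) - 1)) * 2 * ((0.106 : ℝ) * (M : ℝ) ^ 2 * ((s : ℝ) + 1)) ≤
        2 * (2 * (M : ℝ) - 1) * (2 * x + s) * ((b + s).choose s : ℝ) := by
      apply mul_le_mul _ h3 (by positivity)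
      · apply mul_nonneg <;> linarith
      · apply mul_le_mul_of_nonneg_left _ (by linarith)
        linarith
    refine lt_of_lt_of_le ?_ h4
    have h5 : (0 : ℝ) < (M : ℝ) ^ 2 * ((s : ℝ) + 1) := by positivity
    have h6 : c < (2 * (2 * (M : ℝ) - 1)) * 2 * 0.106 := by linarith
    calc (M : ℝ) ^ 2 * ((s : ℝ) + 1) * c < (M : ℝ) ^ 2 * ((s : ℝ) + 1) * ((2 * (2 * (M : ℝ) - 1)) * 2 * 0.106) :=
          mul_lt_mul_of_pos_left h6 h5
      _ = _ := by ring
  rcases le_or_gt ((x : ℝ) ^ 2) ((M : ℝ) - x + 1) with h | h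
  · -- `x^2` small
    refine high_of (c := 4 * 4) (by omega) ha hb (by norm_num) ?_ ?_
    · refine hg1.mul_le hg2 hba ?_ (by norm_num) (by nlinarith)
      omega
    · rw [hYr]
      have h1 : (x : ℝ) ^ 2 / ((M : ℝ) - x + 1) ≤ 1 := (div_le_one hu).2 h
      have h2 := Real.exp_le_exp.2 h1
      have h3 := exp_1
      have h4 := poly (4 * 4 * 2.72) (by norm_num) (by norm_num)
      refine lt_of_le_of_lt ?_ h4
      have h5 : (0 : ℝ) ≤ (M : ℝ) ^ 2 * ((s : ℝ) + 1) * (4 * 4) := by positivity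
      have h6 := mul_le_mul_of_nonneg_left (h2.trans h3) h5
      linarith
  · rcases hreg with hr | ⟨hM9, hr⟩
    · -- small regime
      have hrr : (2 * (x : ℝ) + s) ^ 2 ≤ 11 * ((M : ℝ) + 1) := by exact_mod_cast hr
      have hY3 : 3 * (2 * (x : ℝ) + s) + 1 ≤ M := by nlinarith
      have hY3n : 3 * (2 * x + s) + 1 ≤ M := by exact_mod_cast hY3
      refine high_of (c := 2 * 2) (by omega) ha hb (by norm_num) ?_ ?_
      · refine hg1.mul_le hg2 hba ?_ (by norm_num) ?_
        · omega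
        · linarith
      · rw [hYr]
        have h1 : (x : ℝ) ^ 2 / ((M : ℝ) - x + 1) ≤ 3.2 := by
          rw [div_le_iff₀ hu]
          nlinarith
        have h2 := Real.exp_le_exp.2 h1
        have h3 := exp_32
        have h4 := poly (2 * 2 * 24.6) (by norm_num) (by norm_num)
        refine lt_of_le_of_lt ?_ h4
        have h5 : (0 : ℝ) ≤ (M : ℝ) ^ 2 * ((s : ℝ) + 1) * (2 * 2) := by positivity
        have h6 := mul_le_mul_of_nonneg_left (h2.trans h3) h5
        linarith
    · have hM9r : (9999 : ℝ) ≤ M := by exact_mod_cast hM9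
      have hrr : (2 * (x : ℝ) + s) ^ 2 < 12 * ((M : ℝ) + 1) * (s + 1) := by exact_mod_cast hr
      have hx89 : (89.2 : ℝ) ≤ x := by nlinarith
      have hx90 : 90 ≤ x := by
        by_contra hne
        have : x ≤ 89 := by omega
        have : (x : ℝ) ≤ 89 := by exact_mod_cast this
        linarith
      have hx90r : (90 : ℝ) ≤ x := by exact_mod_cast hx90
      have h4M : 4 * M ≤ 5 * (b + s) := by omega
      rcases le_or_gt (60 * s) M with h60 | h60
      · -- `θ ≤ 43^(s+1)`
        have h60r : 60 * (s : ℝ) ≤ M := by exact_mod_cast h60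
        refine high_of (c := 2 * 2) (by omega) ha hb (by norm_num) ?_ ?_
        · refine hg1.mul_le hg2 hba ?_ (by norm_num) ?_
          · omega
          · linarith
        · rw [hYr]
          have h1 : (x : ℝ) ^ 2 / ((M : ℝ) - x + 1) ≤ ((s + 1 : ℕ) : ℝ) * 3.75 := by
            rw [div_le_iff₀ hu]
            push_cast
            have e1 : 4 * (x : ℝ) ^ 2 ≤ (2 * (x : ℝ) + s) ^ 2 := by nlinarith
            have e2 : (0.8 : ℝ) * (M + 1) ≤ (M : ℝ) - x + 1 := by linarith
            have e3 : ((s : ℝ) + 1) * 3.75 * (0.8 * (M + 1)) ≤ ((s : ℝ) + 1) * 3.75 * ((M : ℝ) - x + 1) :=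
              mul_le_mul_of_nonneg_left e2 (by positivity)
            nlinarith
          have h2 := Real.exp_le_exp.2 h1
          rw [Real.exp_nat_mul] at h2
          have h3 : Real.exp 3.75 ^ (s + 1) ≤ (43 : ℝ) ^ (s + 1) := pow_le_pow_left₀ (Real.exp_pos _).le exp_375 _
          have h4 := h2.trans h3
          have h5 : ((s : ℝ) + 1) * 43 ^ (s + 1) * M ≤ 170 * ((b + s).choose s : ℝ) := by
            exact_mod_cast pS hM9 h4M s hs h60
          calc (M : ℝ) ^ 2 * ((s : ℝ) + 1) * (2 * 2) * Real.exp ((x : ℝ) ^ 2 / ((M : ℝ) - x + 1))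
              ≤ (M : ℝ) ^ 2 * ((s : ℝ) + 1) * (2 * 2) * 43 ^ (s + 1) := mul_le_mul_of_nonneg_left h4 (by positivity)
            _ = (4 * (M : ℝ)) * (((s : ℝ) + 1) * 43 ^ (s + 1) * M) := by ring
            _ ≤ (4 * (M : ℝ)) * (170 * ((b + s).choose s : ℝ)) := mul_le_mul_of_nonneg_left h5 (by positivity)
            _ = (680 * (M : ℝ)) * ((b + s).choose s : ℝ) := by ring
            _ < (2 * (2 * (M : ℝ) - 1) * (2 * x + s)) * ((b + s).choose s : ℝ) := by
                apply mul_lt_mul_of_pos_right _ hCpos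
                nlinarith
            _ = _ := by ring
      · -- `s` large
        have h60r : (M : ℝ) < 60 * s := by exact_mod_cast h60
        obtain ⟨k, hk⟩ : ∃ k, k = M / 60 := ⟨_, rfl⟩
        have hk1 : 60 * k ≤ M := by omega
        have hk2 : M < 60 * (k + 1) := by omega
        have hk2r : (M : ℝ) < 60 * ((k : ℝ) + 1) := by exact_mod_cast hk2
        have hk166 : 166 ≤ k := by omega
        have hks : k ≤ s := by omega
        refine high_of (c := 4 * 4) (by omega) ha hb (by norm_num) ?_ ?_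
        · refine hg1.mul_le hg2 hba ?_ (by norm_num) ?_
          · omega
          · linarith
        · rw [hYr]
          have h1 : (x : ℝ) ^ 2 / ((M : ℝ) - x + 1) ≤ ((k + 1 : ℕ) : ℝ) * 2.76 := by
            rw [div_le_iff₀ hu]
            push_cast
            have e0 : (x : ℝ) ≤ 0.19167 * M := by linarith
            have e1 : (x : ℝ) ^ 2 ≤ (0.19167 * M) ^ 2 := pow_le_pow_left₀ hx0 e0 2
            have e2 : (0.80833 : ℝ) * M ≤ (M : ℝ) - x + 1 := by linarith
            have e3 : (0.046 : ℝ) * M ≤ ((k : ℝ) + 1) * 2.76 := by linarith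
            have e4 : (0.046 : ℝ) * M * (0.80833 * M) ≤ ((k : ℝ) + 1) * 2.76 * ((M : ℝ) - x + 1) :=
              mul_le_mul e3 e2 (by positivity) (by positivity)
            nlinarith
          have h2 := Real.exp_le_exp.2 h1
          rw [Real.exp_nat_mul] at h2
          have h3 : Real.exp 2.76 ^ (k + 1) ≤ (16 : ℝ) ^ (k + 1) := pow_le_pow_left₀ (Real.exp_pos _).le exp_276 _
          have h4 := h2.trans h3
          have h5 : ((k : ℝ) + 1) * 43 ^ (k + 1) * M ≤ 170 * ((b + s).choose k : ℝ) := by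
            exact_mod_cast pS hM9 h4M k (by omega) hk1
          have h6 : ((b + s).choose k : ℝ) ≤ ((b + s).choose s : ℝ) := by
            exact_mod_cast choose_mono_half s hks h2s
          have h7 : (16 : ℝ) ^ (k + 1) * 16 ≤ 43 ^ (k + 1) := by
            have e1 : (32 : ℝ) ^ (k + 1) ≤ 43 ^ (k + 1) := pow_le_pow_left₀ (by norm_num) (by norm_num) _
            have e2 : (32 : ℝ) ^ (k + 1) = 16 ^ (k + 1) * 2 ^ (k + 1) := by rw [← mul_pow]; norm_num
            have e3 : (16 : ℝ) ≤ 2 ^ (k + 1) := by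
              calc (16 : ℝ) = 2 ^ 4 := by norm_num
                _ ≤ 2 ^ (k + 1) := pow_le_pow_right₀ (by norm_num) (by omega)
            calc (16 : ℝ) ^ (k + 1) * 16 ≤ 16 ^ (k + 1) * 2 ^ (k + 1) := mul_le_mul_of_nonneg_left e3 (by positivity)
              _ = 32 ^ (k + 1) := e2.symm
              _ ≤ _ := e1
          have hkr : (166 : ℝ) ≤ k := by exact_mod_cast hk166
          have h8 : (5440 : ℝ) * 16 ^ (k + 1) * M < 2 * (2 * (M : ℝ) - 1) * (170 * ((b + s).choose s : ℝ)) / M * 1 := by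
            have e1 : ((k : ℝ) + 1) * 43 ^ (k + 1) * M ≤ 170 * ((b + s).choose s : ℝ) := h5.trans (by linarith)
            have e2 : (167 : ℝ) * (16 ^ (k + 1) * 16) * M ≤ 170 * ((b + s).choose s : ℝ) := by
              refine le_trans ?_ e1
              apply mul_le_mul_of_nonneg_right _ (by positivity)
              apply mul_le_mul (by linarith) h7 (by positivity) (by positivity)
            have hM0 : (0 : ℝ) < M := by linarith
            have e3 : 2 * (2 * (M : ℝ) - 1) * ((167 : ℝ) * (16 ^ (k + 1) * 16) * M) / M * 1 ≤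
                2 * (2 * (M : ℝ) - 1) * (170 * ((b + s).choose s : ℝ)) / M * 1 := by
              apply mul_le_mul_of_nonneg_right _ (by norm_num)
              apply div_le_div_of_nonneg_right _ hM0.le
              apply mul_le_mul_of_nonneg_left e2 (by linarith)
            refine lt_of_lt_of_le ?_ e3
            have e4 : 2 * (2 * (M : ℝ) - 1) * ((167 : ℝ) * (16 ^ (k + 1) * 16) * M) / M * 1 =
                2 * (2 * (M : ℝ) - 1) * (167 * 16) * 16 ^ (k + 1) := by
              field_simp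
            rw [e4]
            have e5 : (0 : ℝ) < 16 ^ (k + 1) := by positivity
            have e6 : (5440 : ℝ) * M < 2 * (2 * (M : ℝ) - 1) * (167 * 16) := by linarith
            have := mul_lt_mul_of_pos_right e6 e5
            linarith
          have hM0 : (0 : ℝ) < M := by linarith
          have h9 : (5440 : ℝ) * 16 ^ (k + 1) * M * M < 2 * (2 * (M : ℝ) - 1) * (170 * ((b + s).choose s : ℝ)) := by
            have := mul_lt_mul_of_pos_right h8 hM0
            have e : 2 * (2 * (M : ℝ) - 1) * (170 * ((b + s).choose s : ℝ)) / M * 1 * M =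
                2 * (2 * (M : ℝ) - 1) * (170 * ((b + s).choose s : ℝ)) := by field_simp
            linarith
          have h10 : (s : ℝ) + 1 ≤ 2 * (2 * x + s) := by linarith
          have hY0 : (0 : ℝ) < 2 * x + s := by linarith
          calc (M : ℝ) ^ 2 * ((s : ℝ) + 1) * (4 * 4) * Real.exp ((x : ℝ) ^ 2 / ((M : ℝ) - x + 1))
              ≤ (M : ℝ) ^ 2 * ((s : ℝ) + 1) * (4 * 4) * 16 ^ (k + 1) := mul_le_mul_of_nonneg_left h4 (by positivity)
            _ = ((M : ℝ) ^ 2 * (4 * 4) * 16 ^ (k + 1)) * ((s : ℝ) + 1) := by ring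
            _ ≤ ((M : ℝ) ^ 2 * (4 * 4) * 16 ^ (k + 1)) * (2 * (2 * x + s)) :=
                mul_le_mul_of_nonneg_left h10 (by positivity)
            _ = (5440 * 16 ^ (k + 1) * M * M) * ((2 * x + s) / 170) := by ring
            _ < (2 * (2 * (M : ℝ) - 1) * (170 * ((b + s).choose s : ℝ))) * ((2 * x + s) / 170) :=
                mul_lt_mul_of_pos_right h9 (by positivity)
            _ = _ := by ring

end Cfsg.Agent.H403.O1
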